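import Mathlib

universe u

open CategoryTheory Limits AlgebraicGeometry TensorProduct MvPolynomial

namespace Groth.Agent.UOpenAffLib

theorem isPullback_poly {A B : Type u} [CommRing A] [CommRing B] (θ : A →+* B) (σ : Type u) :
    IsPullback (Spec.map (CommRingCat.ofHom (MvPolynomial.map (σ := σ) θ)))
      (Spec.map (CommRingCat.ofHom (C : B →+* MvPolynomial σ B)))
      (Spec.map (CommRingCat.ofHom (C : A →+* MvPolynomial σ A)))
      (Spec.map (CommRingCat.ofHom θ)) := by
  letI := θ.toAlgebra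
  let P := MvPolynomial σ A
  let T := MvPolynomial σ B
  letI := MvPolynomial.algebraMvPolynomial (σ := σ) (R := A) (S := B)
  exact (CommRingCat.isPushout_of_isPushout A P B T).op.map Scheme.Spec |>.flip

/-- Open maps descend to open subschemes of the base change. -/
theorem isOpenMap_snd_comp {X Y T S : Scheme.{u}} (f : X ⟶ Y) (p : T ⟶ Y) (j : S ⟶ T)
    [IsOpenImmersion j] (h : IsOpenMap ⇑(pullback.snd f p)) :
    IsOpenMap ⇑(pullback.snd f (j ≫ p)) := by
  intro O hO
  let k : pullback f (j ≫ p) ⟶ pullback f p :=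
    pullback.map _ _ _ _ (𝟙 X) j (𝟙 Y) (by simp) (by simp)
  have hk : k ≫ pullback.snd f p = pullback.snd f (j ≫ p) ≫ j := pullback.lift_snd _ _ _
  have h1 := h _ (k.isOpenEmbedding.isOpenMap _ hO)
  have h2 : pullback.snd f (j ≫ p) '' O = j ⁻¹' (pullback.snd f p '' (k '' O)) := by
    rw [← Set.image_comp, show ⇑(pullback.snd f p) ∘ ⇑k = ⇑(k ≫ pullback.snd f p) from rfl, hk,
      show ⇑(pullback.snd f (j ≫ p) ≫ j) = ⇑j ∘ ⇑(pullback.snd f (j ≫ p)) from rfl, Set.image_comp,
      Set.preimage_image_eq _ j.isOpenEmbedding.injective]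
  rw [h2]
  exact h1.preimage j.continuous

theorem universallyOpen_of_affineSpace {X Y : Scheme.{u}} (f : X ⟶ Y)
    (h : ∀ n : ℕ, 0 < n →
      IsOpenMap ⇑(Limits.pullback.snd f (AffineSpace (ULift.{u} (Fin n)) Y ↘ Y))) :
    UniversallyOpen f := by
  classical
  refine ⟨fun {P T} i₁ g f' hsq0 => ?_⟩
  have hsq : IsPullback i₁ f' f g := hsq0.flip
  show IsOpenMap ⇑f'
  intro O hO
  rw [isOpen_iff_forall_mem_open]
  rintro t ⟨w, hwO, rfl⟩
  have hy : f (i₁ w) = g (f' w) := by
    rw [← Scheme.Hom.comp_apply, ← Scheme.Hom.comp_apply, hsq.w]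
  obtain ⟨V, hV, hxV, -⟩ :=
    exists_isAffineOpen_mem_and_subset (U := (⊤ : Y.Opens)) (x := f (i₁ w)) trivial
  obtain ⟨U, hU, hxU, hUV⟩ :=
    exists_isAffineOpen_mem_and_subset (U := f ⁻¹ᵁ V) (x := i₁ w) hxV
  obtain ⟨T', hT, htT, hTV⟩ :=
    exists_isAffineOpen_mem_and_subset (U := g ⁻¹ᵁ V) (x := f' w) (by
      show g (f' w) ∈ V
      rw [← hy]; exact hxV)
  letI := (f.appLE V U hUV).hom.toAlgebra
  letI := (g.appLE V T' hTV).hom.toAlgebra
  let A := Γ(Y, V)
  let B := Γ(X, U)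
  let R := Γ(T, T')
  let v : Spec A ⟶ Y := hV.fromSpec
  let φ : Spec B ⟶ Spec A := Spec.map (CommRingCat.ofHom (algebraMap A B))
  let ψ : Spec R ⟶ Spec A := Spec.map (CommRingCat.ofHom (algebraMap A R))
  have hφ : φ ≫ v = hU.fromSpec ≫ f := by
    simp only [φ, v]
    exact hV.SpecMap_appLE_fromSpec f hU hUV
  have hψ : ψ ≫ v = hT.fromSpec ≫ g := by
    simp only [ψ, v]
    exact hV.SpecMap_appLE_fromSpec g hT hTV
  -- the chart of `P`
  have hQ : IsPullback
      (Spec.map (CommRingCat.ofHom (Algebra.TensorProduct.includeLeftRingHom : B →+* B ⊗[A] R)))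
      (Spec.map (CommRingCat.ofHom (Algebra.TensorProduct.includeRight (R := A) (A := B) (B := R)).toRingHom))
      φ ψ :=
    (CommRingCat.isPushout_tensorProduct A B R).op.map Scheme.Spec |>.flip
  let r : Spec (.of (B ⊗[A] R)) ⟶ P :=
    hQ.isoPullback.hom ≫ pullback.map φ ψ f g hU.fromSpec hT.fromSpec v hφ hψ ≫ hsq.isoPullback.inv
  have hr1 : r ≫ i₁ = Spec.map (CommRingCat.ofHom
      (Algebra.TensorProduct.includeLeftRingHom : B →+* B ⊗[A] R)) ≫ hU.fromSpec := by
    show (hQ.isoPullback.hom ≫ _ ≫ hsq.isoPullback.inv) ≫ i₁ = _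
    rw [Category.assoc, Category.assoc, hsq.isoPullback_inv_fst]
    erw [pullback.lift_fst]
    rw [← Category.assoc, hQ.isoPullback_hom_fst]
  have hr2 : r ≫ f' = Spec.map (CommRingCat.ofHom
      (Algebra.TensorProduct.includeRight (R := A) (A := B) (B := R)).toRingHom) ≫ hT.fromSpec := by
    show (hQ.isoPullback.hom ≫ _ ≫ hsq.isoPullback.inv) ≫ f' = _
    rw [Category.assoc, Category.assoc, hsq.isoPullback_inv_snd]
    erw [pullback.lift_snd]
    rw [← Category.assoc, hQ.isoPullback_hom_snd]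
  have hwr : w ∈ Set.range r := by
    obtain ⟨u0, hu0⟩ := hU.range_fromSpec.ge hxU
    obtain ⟨t0, ht0⟩ := hT.range_fromSpec.ge htT
    have : Set.range (pullback.map φ ψ f g hU.fromSpec hT.fromSpec v hφ hψ) =
        pullback.fst f g ⁻¹' Set.range hU.fromSpec ∩ pullback.snd f g ⁻¹' Set.range hT.fromSpec :=
      Scheme.Pullback.range_map ..
    have hm : hsq.isoPullback.hom w ∈ Set.range (pullback.map φ ψ f g hU.fromSpec hT.fromSpec v hφ hψ) := by
      rw [this]
      refine ⟨⟨u0, hu0.trans ?_⟩, ⟨t0, ht0.trans ?_⟩⟩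
      · rw [← Scheme.Hom.comp_apply, hsq.isoPullback_hom_fst]
      · rw [← Scheme.Hom.comp_apply, hsq.isoPullback_hom_snd]
    obtain ⟨z, hz⟩ := hm
    refine ⟨hQ.isoPullback.inv z, ?_⟩
    show (hQ.isoPullback.hom ≫ _ ≫ hsq.isoPullback.inv) (hQ.isoPullback.inv z) = w
    rw [← Scheme.Hom.comp_apply, ← Category.assoc, Iso.inv_hom_id, Category.id_comp,
      Scheme.Hom.comp_apply, hz, ← Scheme.Hom.comp_apply, Iso.hom_inv_id]
    rfl
  obtain ⟨w0, rfl⟩ := hwr
  -- a basic open inside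
  obtain ⟨_, ⟨_, ⟨e, rfl⟩, rfl⟩, hwe, heO⟩ := PrimeSpectrum.isBasis_basic_opens.exists_subset_of_mem_open
    (show w0 ∈ r ⁻¹' O from hwO) (hO.preimage r.continuous)
  obtain ⟨S, hS⟩ := TensorProduct.exists_finset (R := A) e
  let σ : Type u := ULift.{u} (Fin (S.card + 1))
  let el : σ → B × R := fun i => Fin.snoc (α := fun _ => B × R) (fun k => (S.equivFin.symm k).1) (0, 0) i.down
  have hsum : e = ∑ i : σ, (el i).1 ⊗ₜ[A] (el i).2 := by
    rw [hS, ← Equiv.ulift.symm.sum_comp, Fin.sum_univ_castSucc]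
    simp only [el, σ, Equiv.ulift_symm_down, Fin.snoc_castSucc, Fin.snoc_last,
      TensorProduct.tmul_zero, add_zero]
    rw [← Finset.sum_coe_sort, ← S.equivFin.symm.sum_comp]
  let α : MvPolynomial σ A →+* R := eval₂Hom (algebraMap A R) fun i => (el i).2
  let β : MvPolynomial σ B →+* B ⊗[A] R :=
    eval₂Hom Algebra.TensorProduct.includeLeftRingHom fun i => (1 : B) ⊗ₜ[A] (el i).2
  let e' : MvPolynomial σ B := ∑ i : σ, C (el i).1 * MvPolynomial.X i
  have he' : β e' = e := by
    rw [hsum]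
    simp [β, e', map_sum]
  have hcomm : (CommRingCat.ofHom (MvPolynomial.map (σ := σ) (algebraMap A B)) ≫ CommRingCat.ofHom β)
      = CommRingCat.ofHom α ≫ CommRingCat.ofHom
        (Algebra.TensorProduct.includeRight (R := A) (A := B) (B := R)).toRingHom := by
    ext : 1
    refine MvPolynomial.ringHom_ext (fun a => ?_) (fun i => ?_)
    · simp [α, β]
    · simp [α, β]
  have hpoly := isPullback_poly (algebraMap A B) σ
  -- the left square
  have hleft : IsPullback (Spec.map (CommRingCat.ofHom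
      (Algebra.TensorProduct.includeRight (R := A) (A := B) (B := R)).toRingHom))
      (Spec.map (CommRingCat.ofHom β)) (Spec.map (CommRingCat.ofHom α))
      (Spec.map (CommRingCat.ofHom (MvPolynomial.map (σ := σ) (algebraMap A B)))) := by
    refine IsPullback.of_bot ?_ ?_ hpoly
    · have e1 : Spec.map (CommRingCat.ofHom α) ≫
          Spec.map (CommRingCat.ofHom (C : A →+* MvPolynomial σ A)) = ψ := by
        rw [← Spec.map_comp]
        show Spec.map _ = Spec.map _
        congr 1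
        ext : 1
        exact eval₂Hom_comp_C _ _
      have e2 : Spec.map (CommRingCat.ofHom β) ≫
          Spec.map (CommRingCat.ofHom (C : B →+* MvPolynomial σ B)) =
          Spec.map (CommRingCat.ofHom (Algebra.TensorProduct.includeLeftRingHom : B →+* B ⊗[A] R)) := by
        rw [← Spec.map_comp]
        congr 1
        ext : 1
        exact eval₂Hom_comp_C _ _
      rw [e1, e2]
      exact hQ.flip
    · rw [← Spec.map_comp, ← Spec.map_comp, hcomm]
  -- openness of `Spec B[σ] ⟶ Spec A[σ]`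
  have hopen : IsOpenMap ⇑(Spec.map (CommRingCat.ofHom (MvPolynomial.map (σ := σ) (algebraMap A B)))) := by
    haveI : IsOpenImmersion (AffineSpace.map σ v) :=
      MorphismProperty.of_isPullback (P := @IsOpenImmersion) (AffineSpace.isPullback_map v).flip
        inferInstance
    let q := Spec.map (CommRingCat.ofHom (C : A →+* MvPolynomial σ A))
    let j : Spec (.of (MvPolynomial σ A)) ⟶ AffineSpace σ Y :=
      (AffineSpace.SpecIso σ A).inv ≫ AffineSpace.map σ v
    have hj : j ≫ (AffineSpace σ Y ↘ Y) = q ≫ v := by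
      simp only [j, q, Category.assoc, AffineSpace.map_over, AffineSpace.SpecIso_inv_over_assoc]
    have h1 := isOpenMap_snd_comp f (AffineSpace σ Y ↘ Y) j (h (S.card + 1) (Nat.succ_pos _))
    let k := pullback.map φ q f (j ≫ (AffineSpace σ Y ↘ Y)) hU.fromSpec (𝟙 _) v hφ (by simp [hj])
    have heq : Spec.map (CommRingCat.ofHom (MvPolynomial.map (σ := σ) (algebraMap A B))) =
        hpoly.flip.isoPullback.hom ≫ k ≫ pullback.snd f (j ≫ (AffineSpace σ Y ↘ Y)) := by
      erw [pullback.lift_snd]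
      erw [Category.comp_id]
      exact hpoly.flip.isoPullback_hom_snd.symm
    rw [heq]
    exact (h1.comp k.isOpenEmbedding.isOpenMap).comp (Scheme.Hom.homeomorph _).isOpenMap
  -- conclude
  refine ⟨hT.fromSpec '' (Spec.map (CommRingCat.ofHom α) ⁻¹'
      (Spec.map (CommRingCat.ofHom (MvPolynomial.map (σ := σ) (algebraMap A B))) ''
        ((PrimeSpectrum.basicOpen e' : TopologicalSpace.Opens (PrimeSpectrum (MvPolynomial σ B))) : Set (PrimeSpectrum (MvPolynomial σ B))))), ?_, ?_, ?_⟩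
  · rintro _ ⟨c, ⟨b, hb, hbc⟩, rfl⟩
    obtain ⟨z, hz1, hz2⟩ := Scheme.exists_preimage_of_isPullback hleft c b hbc.symm
    refine ⟨r z, heO ?_, ?_⟩
    · show z ∈ PrimeSpectrum.basicOpen e
      rw [← he']
      show (Spec.map (CommRingCat.ofHom β)) z ∈ PrimeSpectrum.basicOpen e'
      rw [hz2]
      exact hb
    · rw [← Scheme.Hom.comp_apply, hr2, Scheme.Hom.comp_apply, hz1]
  · exact hT.fromSpec.isOpenEmbedding.isOpenMap _
      ((hopen _ (PrimeSpectrum.basicOpen e').isOpen).preimage (Scheme.Hom.continuous _))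
  · refine ⟨Spec.map (CommRingCat.ofHom
      (Algebra.TensorProduct.includeRight (R := A) (A := B) (B := R)).toRingHom) w0,
      ⟨Spec.map (CommRingCat.ofHom β) w0, ?_, ?_⟩, ?_⟩
    · show w0 ∈ PrimeSpectrum.basicOpen (β e')
      rw [he']
      exact hwe
    · rw [← Scheme.Hom.comp_apply, ← Scheme.Hom.comp_apply, hleft.w]
    · rw [← Scheme.Hom.comp_apply, ← Scheme.Hom.comp_apply, hr2]

end Groth.Agent.UOpenAffLib
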